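import Groth.Agent.BlowP2.Line
import Groth.Agent.BlowCech.OnDivisor
import Groth.Agent.BlowCech.LocFree
import Groth.Agent.BlowCech.InvExcPush
import Groth.Agent.Nakai.FlatEuler
import Groth.Agent.Nakai.FibreDeg
import Groth.Agent.PtBlow.Contraction
import Groth.Agent.SerrePn.Local
import Groth.Agent.SectRank.Main
import Groth.Agent.ExtFund.SmoothPn
import Groth.Agent.RedKer.Basic
import Groth.Agent.SymAlg.InvDual
import Groth.Agent.FieldAmple.Basic

/-!
# Euler characteristics on the plane blown up in a point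
-/

set_option autoImplicit false
set_option backward.isDefEq.respectTransparency false
set_option backward.isDefEq.respectTransparency.types false
set_option linter.style.haveILetI false
set_option linter.unusedSectionVars false
set_option maxHeartbeats 1000000

universe u

open CategoryTheory CategoryTheory.Limits AlgebraicGeometry TopologicalSpace Opposite
open Groth.Agent.SiteCoh
open Groth.Agent.CohFinite (hhEquiv)

noncomputable section

namespace Groth.Agent.BlowP2

section Push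

variable {k : Type u} [Field k] {Y X : Scheme.{u}} [Y.Over (Spec (CommRingCat.of k))] [X.Over (Spec (CommRingCat.of k))]
  [IsProper (Y ↘ Spec (CommRingCat.of k))] (σ : X ⟶ Y)
  (hσk : σ ≫ Y ↘ Spec (CommRingCat.of k) = X ↘ Spec (CommRingCat.of k))

include hσk in
theorem euler_pullback {J : Y.IdealSheafData} (hJ : BlowCech.LocData J) (hb : BlowUp.IsBlowUp σ J)
    {E : Y.Modules} (hE : FlatMod.IsFinLocFree E) :
    Curv2.euler k X ((Scheme.Modules.pullback σ).obj E) = Curv2.euler k Y E := by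
  obtain ⟨_, _⟩ := BlowCech.qc_qs J hJ hb
  have hM : Coh.IsQCoh ((Scheme.Modules.pullback σ).obj E) :=
    QC.isQCoh_pullback σ (LocFree.isQCoh_of_isFinLocFree hE)
  choose W hW hxW hWV using fun x : Y => BlowCech.goodOpens_basis J hJ E hE (V := ⊤) x trivial
  have hacyc : DirectAcyclic (Opens.grothendieckTopology Y) (Opens.map σ.base)
      (Coh.toAb ((Scheme.Modules.pullback σ).obj E)) :=
    CohFinite.directAcyclic_of_hu_vanish σ _ hM W (fun x => (hW x).1) (fun x => ⟨x, hxW x⟩) fun x i => by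
      obtain ⟨hWa, N, a, r, e, hN, ha, hI, he⟩ := hW x
      obtain ⟨C⟩ := BlowCech.exists_charts J hb ⟨W x, hWa⟩ a hI
      haveI : ((Scheme.Modules.pullback σ).obj E).IsQuasicoherent := hM
      exact BlowCech.subsingleton_hu_frame C _ _ (he.pullback σ) ha hN i
  haveI := BlowCech.isIso_unit_locFree hJ hb hE
  rw [Nakai.euler_push_acyclic k σ hσk _ hacyc]
  exact (CurveRR.euler_eq_of_iso (asIso ((Scheme.Modules.pullbackPushforwardAdjunction σ).unit.app E))).symm

include hσk in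
theorem euler_inverse {Z : Scheme.{u}} (i : Z ⟶ Y) [IsClosedImmersion i] {d : ℕ} (hd : 2 ≤ d)
    (hi : RegImm.IsRegularImmersionOfCodim .regular d i) (hb : BlowUp.IsBlowUp σ i.ker) {L : X.Modules}
    (hL : ClSub.IsInverseOf L (ClSub.idealMod (BlowUp.exceptional σ i.ker))) :
    Curv2.euler k X L = Curv2.euler k Y (Coh.structureModule Y) := by
  obtain ⟨_, _⟩ := BlowCech.qc_qs i.ker (BlowCech.locData_of_codim i d (by omega) hi) hb
  have hM := BlowCech.isQCoh_of_inverse hL
  choose W hW hxW hWV using fun x : Y => BlowCech.goodOpens2_basis i d hd hi (V := ⊤) x trivial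
  have hacyc : DirectAcyclic (Opens.grothendieckTopology Y) (Opens.map σ.base) (Coh.toAb L) :=
    CohFinite.directAcyclic_of_hu_vanish σ _ hM W (fun x => (hW x).1) (fun x => ⟨x, hxW x⟩) fun x j => by
      obtain ⟨hWa, N, a, hN, ha, hI⟩ := hW x
      obtain ⟨C⟩ := BlowCech.exists_charts i.ker hb ⟨W x, hWa⟩ a hI
      haveI : L.IsQuasicoherent := hM
      obtain ⟨ε⟩ := hL
      exact BlowCech.subsingleton_hu_inv C hI ε ha hN j
  obtain ⟨e⟩ := BlowCech.nonempty_push_inv i hd hi hb hL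
  rw [Nakai.euler_push_acyclic k σ hσk _ hacyc]
  exact CurveRR.euler_eq_of_iso e

end Push

variable {k : Type u} [Field k] [IsAlgClosed k]

theorem exists_point {n : ℕ} (p : ↥(CohB1.ProjSpace n k)) (hp : IsClosed ({p} : Set ↥(CohB1.ProjSpace n k))) :
    ∃ s : Spec (CommRingCat.of k) ⟶ CohB1.ProjSpace n k, s ≫ CohB1.ProjSpace.toSpec n k = 𝟙 _ ∧
      IsClosedImmersion s ∧ s.ker = Scheme.IdealSheafData.vanishingIdeal ⟨{p}, hp⟩ ∧ ∀ z, s z = p := by
  haveI : IsProper (CohB1.ProjSpace.toSpec n k) := ProjMor.isProper_toSpec n k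
  let s := pointOfClosedPoint (CohB1.ProjSpace.toSpec n k) p hp
  have hs : s ≫ CohB1.ProjSpace.toSpec n k = 𝟙 _ := pointOfClosedPoint_comp _ _ _
  haveI : IsClosedImmersion (s ≫ CohB1.ProjSpace.toSpec n k) := by rw [hs]; infer_instance
  haveI : IsClosedImmersion s := IsClosedImmersion.of_comp s (CohB1.ProjSpace.toSpec n k)
  have hsp : ∀ z, s z = p := fun z => pointOfClosedPoint_apply _ _ _ z
  refine ⟨s, hs, inferInstance, ?_, hsp⟩
  rw [Nakai.ker_eq_vanishingIdeal s]
  refine congrArg Scheme.IdealSheafData.vanishingIdeal (SetLike.coe_injective ?_)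
  rw [Scheme.Hom.support_ker, (s.isClosedEmbedding.isClosed_range).closure_eq]
  exact Set.range_eq_singleton_iff.2 hsp

theorem euler_twist [QuasiSeparated (CohB1.ProjSpace.toSpec 2 k)] (a : ℤ) :
    2 * Curv2.euler k (CohB1.ProjSpace 2 k) (Twist.twistProjSpace 2 k a) = (a + 1) * (a + 2) := by
  rcases lt_or_ge a 0 with h | h
  · obtain ⟨m, rfl⟩ : ∃ m : ℕ, a = -((m + 1 : ℕ) : ℤ) := ⟨(-a - 1).toNat, by omega⟩
    obtain ⟨-, h2⟩ := PnHodge.twist_hn (n := 2) (k := k) (m + 1) (by omega)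
    rw [HodgeCI.euler_single _ 2 fun i hi => ProjCech.twist_vanish (R := k) 2 (-((m + 1 : ℕ) : ℤ)) i (fun h => by omega) (fun h => absurd h.1 hi),
      h2, Nat.add_sub_cancel]
    have hc : ∀ m : ℕ, 2 * ((m.choose 2 : ℕ) : ℤ) = m * ((m : ℤ) - 1) := fun m => by
      induction m with
      | zero => simp
      | succ m ih => rw [Nat.choose_succ_succ', Nat.choose_one_right]; push_cast; linarith
    rw [show ((-1 : ℤ) ^ 2) = 1 by norm_num, one_mul, hc m]
    push_cast
    ring
  · obtain ⟨j, rfl⟩ : ∃ j : ℕ, a = (j : ℤ) - (0 : ℕ) := ⟨a.toNat, by omega⟩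
    obtain ⟨-, h2⟩ := PnHodge.twist_h0 (n := 2) (k := k) 0 j (by omega)
    rw [HodgeCI.euler_single _ 0 fun i hi => ProjCech.twist_vanish (R := k) 2 ((j : ℤ) - (0 : ℕ)) i (fun h => by omega) (fun h => by omega),
      h2, Nat.sub_zero]
    have hc : ∀ m : ℕ, 2 * (((2 + m).choose 2 : ℕ) : ℤ) = ((m : ℤ) + 1) * (m + 2) := fun m => by
      induction m with
      | zero => simp
      | succ m ih => rw [← Nat.add_assoc, Nat.choose_succ_succ', Nat.choose_one_right]; push_cast; linarith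
    rw [pow_zero, one_mul, hc j]
    push_cast
    ring

/-- `χ(σ^*O(a) ⊗ I_E^b)`. -/
theorem euler_twist_pow (p : ↥(CohB1.ProjSpace 2 k)) (hp : IsClosed ({p} : Set ↥(CohB1.ProjSpace 2 k)))
    {X : Scheme.{u}} [X.Over (Spec (CommRingCat.of k))] (σ : X ⟶ CohB1.ProjSpace 2 k)
    (hσk : σ ≫ CohB1.ProjSpace.toSpec 2 k = X ↘ Spec (CommRingCat.of k))
    (hσ : BlowUp.IsBlowUp σ (Scheme.IdealSheafData.vanishingIdeal ⟨{p}, hp⟩)) (a : ℤ) (b : ℕ) :
    2 * Curv2.euler k X (CohB1.tensorMod ((Scheme.Modules.pullback σ).obj (Twist.twistProjSpace 2 k a))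
      (ClSub.idealMod ((BlowUp.exceptional σ (Scheme.IdealSheafData.vanishingIdeal ⟨{p}, hp⟩)) ^ b))) =
      (a + 1) * (a + 2) - (b : ℤ) * (b + 1) := by
  haveI hPp : IsProper (CohB1.ProjSpace 2 k ↘ Spec (CommRingCat.of k)) := ProjMor.isProper_toSpec 2 k
  haveI := PnHodge.quasiSeparated_toSpec 2 k
  haveI := CurveRR.isNoetherian_of_proper k (CohB1.ProjSpace 2 k)
  obtain ⟨s, hs, hsc, hker, hsp⟩ := exists_point p hp
  haveI := hsc
  haveI := ExtFund.smoothOfRelativeDimension_projSpace (k := k) 2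
  have hi := Groth.Agent.SectRank.isRegularImmersionOfCodim_of_section 2 (CohB1.ProjSpace.toSpec 2 k) s hs
  have hreg : PtBlow.IsRegPt (CohB1.ProjSpace 2 k) p :=
    ⟨hp, SerrePn.isRegularLocalRing_stalk k 2 p, SerrePn.ringKrullDim_stalk k 2 p hp⟩
  obtain ⟨K, hK, ι, hι, -, -, hιker, -, -⟩ := PtBlow.exists_contraction'' hreg hσ
  haveI := hι
  haveI := PtBlow.isProper_blowUp hreg hσ
  haveI : IsProper (X ↘ Spec (CommRingCat.of k)) := by
    rw [← hσk]; exact MorphismProperty.comp_mem _ σ _ inferInstance hPp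
  have hιker' : BlowUp.exceptional σ (Scheme.IdealSheafData.vanishingIdeal ⟨{p}, hp⟩) = ι.ker := hιker.symm
  rw [hιker']
  have hσ' : BlowUp.IsBlowUp σ s.ker := by rw [hker]; exact hσ
  have hex : BlowUp.exceptional σ s.ker = ι.ker := by rw [hker]; exact hιker.symm
  have hE : BlowUp.IsEffCartierIdeal ι.ker := hιker' ▸ hσ.1
  letI : ι.ker.subscheme.Over (Spec (CommRingCat.of k)) := ⟨ι.ker.subschemeι ≫ X ↘ Spec (CommRingCat.of k)⟩
  haveI : IsProper (ι.ker.subscheme ↘ Spec (CommRingCat.of k)) :=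
    inferInstanceAs (IsProper (ι.ker.subschemeι ≫ X ↘ Spec (CommRingCat.of k)))
  obtain ⟨-, hdim, -⟩ := line_facts (k := k) ι.toImage
  have hχD := euler_line (k := k) ι.toImage
  set j := ι.ker.subschemeι with hj
  let O₀ := Coh.structureModule X
  let F := (Scheme.Modules.pullback σ).obj (Twist.twistProjSpace 2 k a)
  let P : ℕ → X.Modules := fun b => ClSub.idealMod (ι.ker ^ b)
  have hPinv : ∀ b, PicF.IsInvertible (P b) := fun b => (BlowCech.invertible_and_mul hE b).1
  have hP1 : Nonempty (P 1 ≅ ClSub.idealMod ι.ker) := ⟨eqToIso (congrArg ClSub.idealMod (pow_one ι.ker))⟩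
  have hJ : PicF.IsInvertible (ClSub.idealMod ι.ker) := by
    obtain ⟨e⟩ := hP1
    exact FieldAmple.isInvertible_of_iso e (hPinv 1)
  have hP0 : Nonempty (P 0 ≅ O₀) := by
    obtain ⟨e⟩ := RatBlow.nonempty_idealMod_top (X := X)
    exact ⟨eqToIso (congrArg ClSub.idealMod (pow_zero ι.ker : ι.ker ^ 0 = (⊤ : X.IdealSheafData))) ≪≫ e⟩
  have hT : PicF.IsInvertible (Twist.twistProjSpace 2 k a) := GrT.isInvertible_twist_of_gens (PlaneCurve.hasFracGens _)
  have hFi : PicF.IsInvertible F := PicLoc.isInvertible_pullback σ hT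
  have hfl : ∀ {Z : Scheme.{u}} {M : Z.Modules}, PicF.IsInvertible M → FlatMod.IsFinLocFree M := fun h =>
    SGA6Ext.finLocFree_of_rank (CurveRR.isFinLocFreeOfRank_one h)
  -- the inverse of the ideal
  obtain ⟨L, hLi, ⟨θ₀⟩⟩ := SymAlg.exists_inverse hJ
  let θ : CohB1.tensorMod L (ClSub.idealMod ι.ker) ≅ O₀ := TMul.commIso _ _ ≪≫ θ₀
  -- the twist is trivial on the exceptional line
  obtain ⟨h, hh⟩ : ∃ h : ι.ker.subscheme ⟶ Spec (CommRingCat.of k), h ≫ s = j ≫ σ := by
    refine ⟨IsClosedImmersion.lift s (j ≫ σ) ?_, IsClosedImmersion.lift_fac _ _ _⟩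
    rw [hker, ← Scheme.IdealSheafData.map_ker, Scheme.IdealSheafData.le_map_iff_comap_le, Scheme.IdealSheafData.ker_subschemeι]
    exact hιker'.le
  obtain ⟨t⟩ : Nonempty ((Scheme.Modules.pullback j).obj F ≅ Coh.structureModule ι.ker.subscheme) := by
    obtain ⟨w⟩ := Nakai.nonempty_iso_one_of_subsingleton (PicLoc.isInvertible_pullback s hT)
    exact ⟨(Scheme.Modules.pullbackComp j σ).app _ ≪≫ (Scheme.Modules.pullbackCongr hh.symm).app _ ≪≫
      ((Scheme.Modules.pullbackComp h s).app _).symm ≪≫ (Scheme.Modules.pullback h).mapIso w.symm ≪≫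
      PicLoc.pullbackStructureIso h⟩
  -- basic values
  have hOP : Curv2.euler k (CohB1.ProjSpace 2 k) (Coh.structureModule (CohB1.ProjSpace 2 k)) = 1 := by
    obtain ⟨o⟩ := PnHodge.nonempty_twist_zero_iso (n := 2) (A := k)
    have h := euler_twist (k := k) 0
    rw [CurveRR.euler_eq_of_iso o] at h
    linarith
  have hχL : Curv2.euler k X L = 1 := by
    rw [euler_inverse σ hσk s (le_refl 2) hi hσ' (by rw [hex]; exact ⟨θ⟩)]
    exact hOP
  have hloc := BlowCech.locData_of_codim s 2 (by omega) hi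
  have hχO : Curv2.euler k X O₀ = 1 := by
    rw [← CurveRR.euler_eq_of_iso (PicLoc.pullbackStructureIso σ),
      euler_pullback σ hσk hloc hσ' (ResDesc.isFinLocFree_structureModule _)]
    exact hOP
  have hχF : 2 * Curv2.euler k X F = (a + 1) * (a + 2) := by
    rw [euler_pullback σ hσk hloc hσ' (hfl hT)]
    exact euler_twist a
  -- the restriction sequences
  have hres : ∀ G : X.Modules, FlatMod.IsFinLocFree G → Curv2.euler k X G =
      Curv2.euler k X (CohB1.tensorMod (ClSub.idealMod ι.ker) G) +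
        Curv2.euler k ι.ker.subscheme ((Scheme.Modules.pullback j).obj G) :=
    fun G hG => HodgeCI.euler_res (k := k) ι.ker rfl hJ G hG
  let L' := (Scheme.Modules.pullback j).obj L
  let N := (Scheme.Modules.pullback j).obj (ClSub.idealMod ι.ker)
  have hNi : PicF.IsInvertible N := PicLoc.isInvertible_pullback j hJ
  have hL'0 : Curv2.euler k ι.ker.subscheme L' = 0 := by
    have h := hres L (hfl hLi)
    rw [CurveRR.euler_eq_of_iso (TMul.commIso _ _ ≪≫ θ), hχL] at h
    change (1 : ℤ) = Curv2.euler k X O₀ + Curv2.euler k ι.ker.subscheme L' at h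
    linarith
  have hLN : Nonempty (CohB1.tensorMod L' N ≅ Coh.structureModule ι.ker.subscheme) := by
    obtain ⟨u⟩ := TMul.nonempty_pullTensorIso j L (ClSub.idealMod ι.ker)
    exact ⟨u ≪≫ (Scheme.Modules.pullback j).mapIso θ ≪≫ PicLoc.pullbackStructureIso j⟩
  have hLN1 : Curv2.euler k ι.ker.subscheme (CohB1.tensorMod L' N) = 1 := by
    obtain ⟨u⟩ := hLN
    rw [CurveRR.euler_eq_of_iso u, hχD]
  have hPj : ∀ b, Nonempty ((Scheme.Modules.pullback j).obj (P b) ≅
      CohB1.tensorMod L' (CohB1.tensorPow N (b + 1))) := by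
    intro b
    induction b with
    | zero =>
      obtain ⟨u⟩ := hLN
      obtain ⟨e⟩ := hP0
      exact ⟨(Scheme.Modules.pullback j).mapIso e ≪≫ PicLoc.pullbackStructureIso j ≪≫ u.symm ≪≫
        PicGrp.tensorModIso (Iso.refl _) (TMul.leftUnitIso N).symm⟩
    | succ b ih =>
      obtain ⟨e⟩ := ih
      obtain ⟨m⟩ := (BlowCech.invertible_and_mul hE b).2
      obtain ⟨v⟩ := TMul.nonempty_pullTensorIso j (ClSub.idealMod ι.ker) (P b)
      exact ⟨(Scheme.Modules.pullback j).mapIso m.symm ≪≫ v.symm ≪≫ TMul.commIso _ _ ≪≫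
        PicGrp.tensorModIso e (Iso.refl _) ≪≫ TMul.assocIso _ _ _⟩
  have hf : ∀ b, Curv2.euler k ι.ker.subscheme ((Scheme.Modules.pullback j).obj (CohB1.tensorMod F (P b))) =
      (b : ℤ) + 1 := by
    intro b
    obtain ⟨e⟩ := hPj b
    obtain ⟨v⟩ := TMul.nonempty_pullTensorIso j F (P b)
    rw [CurveRR.euler_eq_of_iso (v.symm ≪≫ PicGrp.tensorModIso t e ≪≫ TMul.leftUnitIso _),
      euler_pow_linear hdim L' N (CurveRR.isCoh_of_inv (PicLoc.isInvertible_pullback j hLi)) hNi (b + 1), hL'0, hLN1]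
    push_cast
    ring
  induction b with
  | zero =>
    obtain ⟨e⟩ := hP0
    rw [CurveRR.euler_eq_of_iso (PicGrp.tensorModIso (Iso.refl F) e ≪≫ SecTwist.unitorR F), hχF]
    simp
  | succ b ih =>
    obtain ⟨m⟩ := (BlowCech.invertible_and_mul hE b).2
    have h := hres (CohB1.tensorMod F (P b)) (ResDesc.isFinLocFree_tensorMod (hfl hFi) (hfl (hPinv b)))
    rw [hf b, CurveRR.euler_eq_of_iso ((TMul.assocIso _ _ _).symm ≪≫
      PicGrp.tensorModIso (TMul.commIso _ _) (Iso.refl _) ≪≫ TMul.assocIso _ _ _ ≪≫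
      PicGrp.tensorModIso (Iso.refl F) m)] at h
    change _ = Curv2.euler k X (CohB1.tensorMod F (P (b + 1))) + _ at h
    change 2 * Curv2.euler k X (CohB1.tensorMod F (P (b + 1))) = _
    change 2 * Curv2.euler k X (CohB1.tensorMod F (P b)) = _ at ih
    push_cast
    linarith

end Groth.Agent.BlowP2
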