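import Groth.Agent.HodgeCI.Hirzebruch
import Groth.Agent.DualGeneric.GlobalField
import Groth.Agent.Castel.Inter
import Groth.Agent.ProjMor.ProjSpaceBase
import Groth.Agent.Intersect.Snapper
import Groth.Agent.Horrocks.Dim
import Groth.Agent.S10829

/-!
# Closed subschemes isomorphic to a projective line
-/

set_option autoImplicit false
set_option backward.isDefEq.respectTransparency false
set_option backward.isDefEq.respectTransparency.types false
set_option linter.style.haveILetI false
set_option linter.unusedSectionVars false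
set_option maxHeartbeats 1000000

universe u

open CategoryTheory CategoryTheory.Limits AlgebraicGeometry TopologicalSpace Opposite
open Groth.Agent.CohFinite (hhEquiv)

noncomputable section

namespace Groth.Agent.BlowP2

variable {k : Type u} [Field k]

/-- A scheme isomorphic to a projective line has dimension one and no higher cohomology of the functions. -/
theorem line_facts {K : Type u} [Field K] {D : Scheme.{u}} [D.Over (Spec (CommRingCat.of k))]
    (g : CohB1.ProjSpace 1 K ⟶ D) [IsIso g] :
    IsIntegral D ∧ topologicalKrullDim D < ((2 : ℕ) : WithBot ℕ∞) ∧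
      ∀ q : ℕ, q ≠ 0 → Subsingleton (Coh.HH D (Coh.structureModule D) q) := by
  haveI := Horrocks.isIntegral_projSpace (k := K) (n := 1)
  haveI : Nonempty D := ⟨g (Classical.arbitrary _)⟩
  refine ⟨isIntegral_of_isOpenImmersion (inv g), ?_, fun q hq => ?_⟩
  · rw [← IsHomeomorph.topologicalKrullDim_eq g g.homeomorph.isHomeomorph, Groth.Agent.S10829.result K 1]
    decide
  · obtain ⟨o⟩ : Nonempty (Twist.twistProjSpace 1 K 0 ≅ Coh.structureModule (CohB1.ProjSpace 1 K)) :=
      GrT.nonempty_twist_zero_iso (𝒜 := CohB1.polyGrading 1 K)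
    have hv : Subsingleton (Coh.HH (CohB1.ProjSpace 1 K) (Coh.structureModule (CohB1.ProjSpace 1 K)) q) :=
      CohQC.hh_subsingleton_of_iso o q (ProjCech.twist_vanish (R := K) 1 0 q (fun h => by omega) (fun h => by omega))
    obtain ⟨e⟩ := Castel.nonempty_push_structure g
    haveI : (Coh.structureModule (CohB1.ProjSpace 1 K)).IsQuasicoherent := QC.isQCoh_unit _
    letI : (CohB1.ProjSpace 1 K).Over (Spec (CommRingCat.of k)) := ⟨g ≫ D ↘ Spec (CommRingCat.of k)⟩
    obtain ⟨f⟩ := CohFinite.hh_push_linear k g rfl _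
      (CohQC.directAcyclic_of_isAffineHom g (Coh.structureModule (CohB1.ProjSpace 1 K))) q
    exact CohQC.hh_subsingleton_of_iso e q (f.toEquiv.subsingleton_congr.1 hv)

variable [IsAlgClosed k]

theorem euler_line {K : Type u} [Field K] {D : Scheme.{u}} [D.Over (Spec (CommRingCat.of k))]
    [IsProper (D ↘ Spec (CommRingCat.of k))] (g : CohB1.ProjSpace 1 K ⟶ D) [IsIso g] :
    Curv2.euler k D (Coh.structureModule D) = 1 := by
  obtain ⟨hD, -, hq⟩ := line_facts (k := k) g
  haveI := hD
  rw [HodgeCI.euler_single _ 0 hq, DualGeneric.h0_structure_connected (k := k)]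
  norm_num

/-- Euler characteristics along powers of an invertible sheaf on a line: affine linear. -/
theorem euler_pow_linear {D : Scheme.{u}} [D.Over (Spec (CommRingCat.of k))]
    [IsProper (D ↘ Spec (CommRingCat.of k))] (hd : topologicalKrullDim D < ((2 : ℕ) : WithBot ℕ∞))
    (F M : D.Modules) (hF : Coh.IsCoh F) (hM : PicF.IsInvertible M) (n : ℕ) :
    Curv2.euler k D (CohB1.tensorMod F (CohB1.tensorPow M n)) = Curv2.euler k D F +
      n * (Curv2.euler k D (CohB1.tensorMod F M) - Curv2.euler k D F) := by
  obtain ⟨P, hP, hev⟩ := Intersect.exists_polynomial k (r := 1) hF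
    (D := 2) ((topologicalKrullDim_subspace_le _ _).trans_lt hd) (L := fun _ => M) (fun _ => hM)
  let g : ℕ → ℤ := fun i => Curv2.euler k D (CohB1.tensorMod F (CohB1.tensorPow M i))
  have hg : ∀ i : ℕ, (g i : ℚ) = ∑ m ∈ P.support, P.coeff m * (i : ℚ) ^ m 0 := fun i => by
    have h := hev fun _ => i
    rw [MvPolynomial.eval_eq'] at h
    simp only [Fin.prod_univ_one] at h
    exact h
  have hdeg : ∀ m ∈ P.support, m 0 < 2 := fun m hm => by
    have h := hP m hm
    rwa [Finsupp.sum_fintype _ _ (fun _ => rfl), Fin.sum_univ_one] at h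
  have key : (g n : ℚ) - g 0 = n * ((g 1 : ℚ) - g 0) := by
    rw [hg, hg, hg, ← Finset.sum_sub_distrib, ← Finset.sum_sub_distrib, Finset.mul_sum]
    refine Finset.sum_congr rfl fun m hm => ?_
    have := hdeg m hm
    rcases (show m 0 = 0 ∨ m 0 = 1 by omega) with h | h
    · rw [h]; simp
    · rw [h]; simp only [pow_one, Nat.cast_zero, Nat.cast_one, mul_zero, mul_one, sub_zero]; ring
  have key' : g n - g 0 = n * (g 1 - g 0) := by exact_mod_cast key
  have h0 : g 0 = Curv2.euler k D F := CurveRR.euler_eq_of_iso (SecTwist.unitorR F)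
  have h1 : g 1 = Curv2.euler k D (CohB1.tensorMod F M) :=
    CurveRR.euler_eq_of_iso (PicGrp.tensorModIso (Iso.refl _) (TMul.leftUnitIso M))
  rw [h0, h1] at key'
  show g n = _
  linarith

end Groth.Agent.BlowP2
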