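import Groth.Agent.BlowP2.Euler
import Groth.Agent.BlowPn.Acm
import Groth.Agent.CohFinite.Proper

/-!
# The cohomology of the line bundles on the plane blown up in a point
-/

set_option autoImplicit false
set_option backward.isDefEq.respectTransparency false
set_option backward.isDefEq.respectTransparency.types false
set_option linter.style.haveILetI false
set_option linter.unusedSectionVars false
set_option maxHeartbeats 1000000

universe u

open CategoryTheory CategoryTheory.Limits AlgebraicGeometry TopologicalSpace Opposite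
open Groth.Agent.SiteCoh
open Groth.Agent.CohFinite (hhMap hhEquiv hhδ)

noncomputable section

namespace Groth.Agent.BlowP2

open Groth.Agent.BlowPn (subsingleton_hh_iso subsingleton_hh_X₃)

theorem two_mul_choose_two (m : ℕ) : 2 * ((m.choose 2 : ℕ) : ℤ) = m * ((m : ℤ) - 1) := by
  induction m with
  | zero => simp
  | succ m ih => rw [Nat.choose_succ_succ', Nat.choose_one_right]; push_cast; linarith

theorem choose_two_low (m : ℕ) (h : m ≤ 1) : ((m.choose 2 : ℕ) : ℤ) = 0 := by
  rw [Nat.choose_eq_zero_of_lt (by omega), Nat.cast_zero]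

theorem euler_three {k : Type u} [Field k] {X : Scheme.{u}} [X.Over (Spec (CommRingCat.of k))] {F : X.Modules}
    (h : ∀ i, 3 ≤ i → Subsingleton (Coh.HH X F i)) :
    Curv2.euler k X F = (Module.finrank k (Coh.HH X F 0) : ℤ) - (Module.finrank k (Coh.HH X F 1) : ℤ) +
      (Module.finrank k (Coh.HH X F 2) : ℤ) := by
  rw [CurveRR.euler_eq_sum F 3 h]
  simp only [Finset.sum_range_succ, Finset.sum_range_zero]
  norm_num
  ring

/-- in a short exact sequence with no `H⁰` at the third place -/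
theorem finrank_h0_eq {k : Type u} [Field k] {X : Scheme.{u}} [X.Over (Spec (CommRingCat.of k))]
    [IsProper (X ↘ Spec (CommRingCat.of k))] {S : ShortComplex X.Modules} (hS : S.ShortExact)
    (h : Subsingleton (Coh.HH X S.X₃ 0)) :
    Module.finrank k (Coh.HH X S.X₂ 0) = Module.finrank k (Coh.HH X S.X₁ 0) := by
  refine ((LinearEquiv.ofBijective (hhMap k S.f 0) ⟨CurveRR.injective_f hS, ?_⟩).finrank_eq).symm
  rw [← LinearMap.range_eq_top, CurveRR.range_f_eq_ker_g hS]
  exact eq_top_iff.2 fun x _ => LinearMap.mem_ker.2 (h.elim _ _)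

/-- in a short exact sequence with no top cohomology at the third place -/
theorem subsingleton_top {k : Type u} [Field k] {X : Scheme.{u}} [X.Over (Spec (CommRingCat.of k))]
    [IsProper (X ↘ Spec (CommRingCat.of k))] {S : ShortComplex X.Modules} (hS : S.ShortExact) (q : ℕ)
    (h₁ : Subsingleton (Coh.HH X S.X₁ q)) (h₃ : Subsingleton (Coh.HH X S.X₃ q)) :
    Subsingleton (Coh.HH X S.X₂ q) := by
  refine subsingleton_of_forall_eq 0 fun x => ?_
  have hx : x ∈ LinearMap.ker (hhMap k S.g q) := LinearMap.mem_ker.2 (h₃.elim _ _)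
  rw [← CurveRR.range_f_eq_ker_g hS] at hx
  obtain ⟨y, rfl⟩ := hx
  rw [show y = 0 from h₁.elim _ _, map_zero]

variable {k : Type u} [Field k] [IsAlgClosed k] (x : ↥(CohB1.ProjSpace 2 k))
  (hx : IsClosed ({x} : Set ↥(CohB1.ProjSpace 2 k))) {X : Scheme.{u}} [X.Over (Spec (CommRingCat.of k))]
  (σ : X ⟶ CohB1.ProjSpace 2 k) (hσk : σ ≫ CohB1.ProjSpace.toSpec 2 k = X ↘ Spec (CommRingCat.of k))
  (hσ : BlowUp.IsBlowUp σ (Scheme.IdealSheafData.vanishingIdeal ⟨{x}, hx⟩))


/-- `σ^*O(c)` -/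
abbrev sO (c : ℤ) : X.Modules := (Scheme.Modules.pullback σ).obj (Twist.twistProjSpace 2 k c)

include hσk hσ in
theorem isProper_over : IsProper (X ↘ Spec (CommRingCat.of k)) := by
  haveI hPp : IsProper (CohB1.ProjSpace 2 k ↘ Spec (CommRingCat.of k)) := ProjMor.isProper_toSpec 2 k
  have hreg : PtBlow.IsRegPt (CohB1.ProjSpace 2 k) x :=
    ⟨hx, SerrePn.isRegularLocalRing_stalk k 2 x, SerrePn.ringKrullDim_stalk k 2 x hx⟩
  haveI := PtBlow.isProper_blowUp hreg hσ
  rw [← hσk]
  exact MorphismProperty.comp_mem _ σ _ inferInstance hPp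

omit [IsAlgClosed k] in
theorem jz_eq {hZ : IsClosed (Set.range fun _ : Fin 1 => x)} :
    BlowPn.JZ (fun _ : Fin 1 => x) hZ = Scheme.IdealSheafData.vanishingIdeal ⟨{x}, hx⟩ :=
  congrArg Scheme.IdealSheafData.vanishingIdeal (Closeds.ext Set.range_const)

omit [IsAlgClosed k] in
include hx in
theorem isClosed_range_const : IsClosed (Set.range fun _ : Fin 1 => x) := by
  rw [Set.range_const]; exact hx

include hx in
theorem locData_point : BlowCech.LocData (Scheme.IdealSheafData.vanishingIdeal ⟨{x}, hx⟩) := by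
  rw [← jz_eq x hx (hZ := isClosed_range_const x hx)]
  exact BlowPn.locData_jz _ (fun a b _ => Subsingleton.elim a b) (fun _ => hx) _ two_pos

include hσk hσ in
/-- the pullbacks have the cohomology of the plane -/
theorem nonempty_hh_sO (c : ℤ) (i : ℕ) :
    Nonempty (Coh.HH X (sO σ c) i ≃ₗ[k] Coh.HH (CohB1.ProjSpace 2 k) (Twist.twistProjSpace 2 k c) i) := by
  have hT := CohFinite.isInvertible_twist 2 k c
  have hJ := locData_point x hx
  obtain ⟨_, _⟩ := BlowCech.qc_qs _ hJ hσ
  haveI := BlowCech.isIso_unit_locFree hJ hσ (ResDesc.isFinLocFree_of_isInvertible hT)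
  obtain ⟨e⟩ := CohFinite.hh_push_linear k σ hσk _ (BlowPn.directAcyclic_pullback σ hσ hT hJ) i
  exact ⟨e ≪≫ₗ (hhEquiv k (asIso ((Scheme.Modules.pullbackPushforwardAdjunction σ).unit.app _)) i).symm⟩

include hσk hσ in
theorem finrank_sO_zero (c : ℤ) : Module.finrank k (Coh.HH X (sO σ c) 0) = (c + 2).toNat.choose 2 := by
  obtain ⟨e⟩ := nonempty_hh_sO x hx σ hσk hσ c 0
  rw [e.finrank_eq]
  rcases lt_or_ge c 0 with h | h
  · haveI : Subsingleton (Coh.HH (CohB1.ProjSpace 2 k) (Twist.twistProjSpace 2 k c) 0) :=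
      ProjCech.twist_vanish (R := k) 2 c 0 (fun h' => by omega) (fun h' => by omega)
    rw [Module.finrank_zero_of_subsingleton, Nat.choose_eq_zero_of_lt (by omega)]
  · obtain ⟨j, rfl⟩ : ∃ j : ℕ, c = (j : ℤ) - (0 : ℕ) := ⟨c.toNat, by omega⟩
    rw [(PnHodge.twist_h0 (n := 2) (k := k) 0 j (by omega)).2]
    congr 1
    omega

include hσk hσ in
theorem finrank_sO_two (c : ℤ) : Module.finrank k (Coh.HH X (sO σ c) 2) = (-c - 1).toNat.choose 2 := by
  obtain ⟨e⟩ := nonempty_hh_sO x hx σ hσk hσ c 2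
  rw [e.finrank_eq]
  rcases lt_or_ge c 0 with h | h
  · obtain ⟨m, hm, rfl⟩ : ∃ m : ℕ, 0 < m ∧ c = -(m : ℤ) := ⟨(-c).toNat, by omega, by omega⟩
    haveI := PnHodge.quasiSeparated_toSpec 2 k
    rw [(PnHodge.twist_hn (n := 2) (k := k) m hm).2]
    congr 1
    omega
  · haveI : Subsingleton (Coh.HH (CohB1.ProjSpace 2 k) (Twist.twistProjSpace 2 k c) 2) :=
      ProjCech.twist_vanish (R := k) 2 c 2 (fun h' => by omega) (fun h' => by omega)
    rw [Module.finrank_zero_of_subsingleton, Nat.choose_eq_zero_of_lt (by omega)]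

section Pos

/-- `σ^*O(p) ⊗ I_E^b` -/
abbrev MI (p : ℤ) (b : ℕ) : X.Modules :=
  CohB1.tensorMod (sO σ p) (ClSub.idealMod ((BlowUp.exceptional σ (Scheme.IdealSheafData.vanishingIdeal ⟨{x}, hx⟩)) ^ b))

/-- the base case of `MI` in the notation of the blow-up of several points -/
theorem nonempty_MI_M (hσ' : BlowUp.IsBlowUp σ (Scheme.IdealSheafData.vanishingIdeal ⟨{x}, hx⟩)) (p : ℤ) (b : ℕ)
    {hZ : IsClosed (Set.range fun _ : Fin 1 => x)} :
    Nonempty (MI x hx σ p b ≅ BlowPn.M σ (BlowUp.exceptional σ (BlowPn.JZ (fun _ : Fin 1 => x) hZ)) p b) := by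
  obtain ⟨-, ⟨e⟩⟩ := BlowPn.nonempty_pow hσ'.1 b
  rw [jz_eq x hx]
  exact ⟨PicGrp.tensorModIso (Iso.refl _) e.symm⟩

include hσ in
theorem subsingleton_MI_ge_two (p : ℤ) (b : ℕ) {i : ℕ} (hi : 2 ≤ i) (hin : i = 2 → -2 ≤ p) :
    Subsingleton (Coh.HH X (MI x hx σ p b) i) := by
  obtain ⟨e⟩ := nonempty_MI_M x hx σ hσ p b (hZ := isClosed_range_const x hx)
  exact subsingleton_hh_iso e.symm i (BlowPn.subsingleton_M_ge_two σ _ (fun a b _ => Subsingleton.elim a b)
    (fun _ => hx) _ two_pos (by rw [jz_eq x hx]; exact hσ) p b hi (fun h => by simpa using hin h))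

include hσ in
theorem subsingleton_MI_one (p : ℤ) (b : ℕ) (hb : b = 0 ∨ (b : ℤ) ≤ p + 1) :
    Subsingleton (Coh.HH X (MI x hx σ p b) 1) := by
  obtain ⟨e⟩ := nonempty_MI_M x hx σ hσ p b (hZ := isClosed_range_const x hx)
  exact subsingleton_hh_iso e.symm 1 (BlowPn.subsingleton_M_one σ _ (fun a b _ => Subsingleton.elim a b)
    (fun _ => hx) _ two_pos (by rw [jz_eq x hx]; exact hσ) p b le_rfl le_rfl hb)

include hσk hσ in
theorem finrank_MI_two (p : ℤ) (b : ℕ) :
    Module.finrank k (Coh.HH X (MI x hx σ p b) 2) = (-p - 1).toNat.choose 2 := by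
  haveI := isProper_over x hx σ hσk hσ
  haveI := CohFinite.isNoetherian_projSpace 2 k
  have hJ := locData_point x hx
  have hT := CohFinite.isInvertible_twist 2 k p
  let J := Scheme.IdealSheafData.vanishingIdeal (⟨{x}, hx⟩ : Closeds ↥(CohB1.ProjSpace 2 k))
  let K := J ^ b
  have hK : BlowPn.Adapted J K := fun y => ⟨⊤, trivial, b, fun W _ => by
    rw [Scheme.IdealSheafData.ideal_pow, Pi.pow_apply]⟩
  have hdim : topologicalKrullDim (K.support : Set ↥(CohB1.ProjSpace 2 k)) ≤ 0 :=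
    Intersect.dim_le_zero_of_closedPoints K.support.isClosed fun y hy => by
      rcases Nat.eq_zero_or_pos b with rfl | h0
      · simp only [K, pow_zero] at hy
        have h' : y ∈ ((⊤ : (CohB1.ProjSpace 2 k).IdealSheafData).support : Set _) := hy
        simp at h'
      · simp only [K] at hy
        rw [Scheme.IdealSheafData.support_pow _ _ (by omega), Scheme.IdealSheafData.coe_support_vanishingIdeal] at hy
        rw [Set.mem_singleton_iff.1 hy]
        exact hx
  have hS := BlowPn.seq_shortExact (K := K) σ hT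
  have hQ : ∀ i, 1 ≤ i → Subsingleton (Coh.HH X (BlowPn.seq σ K (Twist.twistProjSpace 2 k p)).X₃ i) := fun i hi =>
    BlowPn.subsingleton_hh_twQ σ hσ hT hJ hK hdim i hi
  have hbij : Function.Bijective (hhMap k (BlowPn.seq σ K (Twist.twistProjSpace 2 k p)).f 2) := by
    constructor
    · rw [← LinearMap.ker_eq_bot, ← CurveRR.range_δ_eq_ker_f hS 1, Submodule.eq_bot_iff]
      rintro _ ⟨y, rfl⟩
      rw [show y = 0 from (hQ 1 le_rfl).elim _ _, map_zero]
    · rw [← LinearMap.range_eq_top, CurveRR.range_f_eq_ker_g hS]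
      exact eq_top_iff.2 fun z _ => LinearMap.mem_ker.2 ((hQ 2 one_le_two).elim _ _)
  have hcomap : K.comap σ = BlowUp.exceptional σ J ^ b := BlowPn.comap_pow' σ J b
  let e : MI x hx σ p b ≅ (BlowPn.seq σ K (Twist.twistProjSpace 2 k p)).X₁ :=
    TMul.commIso _ _ ≪≫ PicGrp.tensorModIso (eqToIso (congrArg ClSub.idealMod hcomap.symm)) (Iso.refl _)
  rw [((hhEquiv k e 2) ≪≫ₗ LinearEquiv.ofBijective _ hbij ≪≫ₗ hhEquiv k (TMul.leftUnitIso _) 2).finrank_eq,
    finrank_sO_two x hx σ hσk hσ p]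

include hσk hσ in
theorem subsingleton_MI_zero : ∀ (p : ℤ) (b : ℕ), p < b → Subsingleton (Coh.HH X (MI x hx σ p b) 0) := by
  haveI := isProper_over x hx σ hσk hσ
  let I := BlowUp.exceptional σ (Scheme.IdealSheafData.vanishingIdeal (⟨{x}, hx⟩ : Closeds ↥(CohB1.ProjSpace 2 k)))
  have hfin : ∀ (c : ℤ) (d : ℕ), FiniteDimensional k (Coh.HH X (MI x hx σ c d) 0) := fun c d => by
    haveI := CurveRR.isNoetherian_of_proper k X
    exact CohFinite.finite_proper k X _ (CurveRR.isCoh_of_inv (TMul.isInvertible_tensorMod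
      (BlowPn.isInvertible_pullback σ (CohFinite.isInvertible_twist 2 k c)) (BlowCech.invertible_and_mul hσ.1 d).1)) 0
  have h0 : ∀ c : ℤ, c < 0 → Subsingleton (Coh.HH X (MI x hx σ c 0) 0) := fun c hc => by
    obtain ⟨z⟩ := RatBlow.nonempty_idealMod_top (X := X)
    refine subsingleton_hh_iso ((SecTwist.unitorR (sO σ c)).symm ≪≫ PicGrp.tensorModIso (Iso.refl _)
      (z.symm ≪≫ eqToIso (congrArg ClSub.idealMod (pow_zero I).symm))) 0 ?_
    obtain ⟨e⟩ := nonempty_hh_sO x hx σ hσk hσ c 0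
    exact e.toEquiv.subsingleton_congr.2
      (ProjCech.twist_vanish (R := k) 2 c 0 (fun h' => by omega) (fun h' => by omega))
  intro p b
  induction b with
  | zero => exact fun h => h0 p (by exact_mod_cast h)
  | succ b ih =>
    intro h
    rcases eq_or_lt_of_le (show p ≤ (b : ℤ) by push_cast at h; omega) with rfl | hlt
    · haveI := hfin (b : ℤ) (b + 1)
      have hχ := euler_twist_pow x hx σ hσk hσ (b : ℤ) (b + 1)
      rw [euler_three fun i hi => subsingleton_MI_ge_two x hx σ hσ _ _ (by omega) (fun _ => by omega)] at hχ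
      haveI := subsingleton_MI_one x hx σ hσ (b : ℤ) (b + 1) (Or.inr (by push_cast; omega))
      haveI := subsingleton_MI_ge_two x hx σ hσ (b : ℤ) (b + 1) le_rfl (fun _ => by omega)
      rw [Module.finrank_zero_of_subsingleton (M := Coh.HH X (MI x hx σ (b : ℤ) (b + 1)) 1),
        Module.finrank_zero_of_subsingleton (M := Coh.HH X (MI x hx σ (b : ℤ) (b + 1)) 2)] at hχ
      push_cast at hχ
      exact (Module.finrank_zero_iff (R := k)).1 (by
        have : 2 * (Module.finrank k (Coh.HH X (MI x hx σ (b : ℤ) (b + 1)) 0) : ℤ) = 0 := by linarith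
        omega)
    · have hG : PicF.IsInvertible (MI x hx σ p b) := TMul.isInvertible_tensorMod
        (BlowPn.isInvertible_pullback σ (CohFinite.isInvertible_twist 2 k p)) (BlowCech.invertible_and_mul hσ.1 b).1
      have hS := CohFinite.shortExact_tmap hG (CurveRR.ideal_shortExact I)
      obtain ⟨m⟩ := (BlowCech.invertible_and_mul hσ.1 b).2
      refine subsingleton_hh_iso ((TMul.assocIso _ _ _).symm ≪≫
        PicGrp.tensorModIso (TMul.commIso _ _) (Iso.refl _) ≪≫ TMul.assocIso _ _ _ ≪≫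
        PicGrp.tensorModIso (Iso.refl (sO σ p)) m) 0 ?_
      exact BlowPn.subsingleton_hh_X₁_zero hS (subsingleton_hh_iso (TMul.leftUnitIso _).symm 0 (ih hlt))

end Pos

section Neg

include hσ in
/-- facts on the exceptional line -/
theorem exc_facts [iD : (BlowUp.exceptional σ (Scheme.IdealSheafData.vanishingIdeal ⟨{x}, hx⟩)).subscheme.Over
      (Spec (CommRingCat.of k))]
    [iP : IsProper ((BlowUp.exceptional σ (Scheme.IdealSheafData.vanishingIdeal ⟨{x}, hx⟩)).subscheme ↘
      Spec (CommRingCat.of k))] :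
    topologicalKrullDim (BlowUp.exceptional σ (Scheme.IdealSheafData.vanishingIdeal ⟨{x}, hx⟩)).subscheme < ((2 : ℕ) : WithBot ℕ∞) ∧
    Curv2.euler k (BlowUp.exceptional σ (Scheme.IdealSheafData.vanishingIdeal ⟨{x}, hx⟩)).subscheme
      (Coh.structureModule (BlowUp.exceptional σ (Scheme.IdealSheafData.vanishingIdeal ⟨{x}, hx⟩)).subscheme) = 1 ∧
    ∀ a : ℤ, Nonempty ((Scheme.Modules.pullback
      (BlowUp.exceptional σ (Scheme.IdealSheafData.vanishingIdeal ⟨{x}, hx⟩)).subschemeι).obj (sO σ a) ≅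
        Coh.structureModule (BlowUp.exceptional σ (Scheme.IdealSheafData.vanishingIdeal ⟨{x}, hx⟩)).subscheme) := by
  obtain ⟨s, hs, hsc, hker, -⟩ := exists_point x hx
  haveI := hsc
  have hreg : PtBlow.IsRegPt (CohB1.ProjSpace 2 k) x :=
    ⟨hx, SerrePn.isRegularLocalRing_stalk k 2 x, SerrePn.ringKrullDim_stalk k 2 x hx⟩
  obtain ⟨K, hK, ι, hι, -, -, hιker, -, -⟩ := PtBlow.exists_contraction'' hreg hσ
  haveI := hι
  have h' : BlowUp.exceptional σ (Scheme.IdealSheafData.vanishingIdeal ⟨{x}, hx⟩) = ι.ker := hιker.symm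
  revert iD
  rw [h']
  intro iD iP
  refine ⟨(line_facts (k := k) ι.toImage).2.1, euler_line (k := k) ι.toImage, fun a => ?_⟩
  obtain ⟨h, hh⟩ : ∃ h : ι.ker.subscheme ⟶ Spec (CommRingCat.of k), h ≫ s = ι.ker.subschemeι ≫ σ := by
    refine ⟨IsClosedImmersion.lift s (ι.ker.subschemeι ≫ σ) ?_, IsClosedImmersion.lift_fac _ _ _⟩
    rw [hker, ← Scheme.IdealSheafData.map_ker, Scheme.IdealSheafData.le_map_iff_comap_le,
      Scheme.IdealSheafData.ker_subschemeι]
    exact h'.le
  obtain ⟨w⟩ := Nakai.nonempty_iso_one_of_subsingleton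
    (PicLoc.isInvertible_pullback s (CohFinite.isInvertible_twist 2 k a))
  exact ⟨(Scheme.Modules.pullbackComp ι.ker.subschemeι σ).app _ ≪≫ (Scheme.Modules.pullbackCongr hh.symm).app _ ≪≫
    ((Scheme.Modules.pullbackComp h s).app _).symm ≪≫ (Scheme.Modules.pullback h).mapIso w.symm ≪≫
    PicLoc.pullbackStructureIso h⟩

variable {L : X.Modules}
  (hL : ClSub.IsInverseOf L (ClSub.idealMod (BlowUp.exceptional σ (Scheme.IdealSheafData.vanishingIdeal ⟨{x}, hx⟩))))

/-- `σ^*O(p) ⊗ L^b` -/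
abbrev ML (L : X.Modules) (p : ℤ) (b : ℕ) : X.Modules := CohB1.tensorMod (sO σ p) (CohB1.tensorPow L b)

include hσ hL in
theorem isInvertible_L : PicF.IsInvertible L := by
  obtain ⟨L', hL', ⟨θ⟩⟩ := SymAlg.exists_inverse ((Groth.Agent.S8914.result _).2 hσ.1)
  obtain ⟨h⟩ := hL
  obtain ⟨w⟩ := AmpleEmb.nonempty_iso_of_inverse (A := L') (A' := L)
    (B := ClSub.idealMod (BlowUp.exceptional σ (Scheme.IdealSheafData.vanishingIdeal ⟨{x}, hx⟩))) θ h
  exact FieldAmple.isInvertible_of_iso w.symm hL'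

include hσ hL in
theorem isInvertible_ML (p : ℤ) (b : ℕ) : PicF.IsInvertible (ML σ L p b) :=
  TMul.isInvertible_tensorMod (BlowPn.isInvertible_pullback σ (CohFinite.isInvertible_twist 2 k p))
    (TMul.isInvertible_tensorPow (isInvertible_L x hx σ hσ hL) b)

include hL in
/-- one step down -/
theorem nonempty_ideal_ML (p : ℤ) (b : ℕ) :
    Nonempty (CohB1.tensorMod (ClSub.idealMod (BlowUp.exceptional σ (Scheme.IdealSheafData.vanishingIdeal ⟨{x}, hx⟩)))
      (ML σ L p (b + 1)) ≅ ML σ L p b) := by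
  obtain ⟨h⟩ := hL
  exact ⟨TMul.commIso _ _ ≪≫ TMul.assocIso _ _ _ ≪≫ PicGrp.tensorModIso (Iso.refl _)
    (TMul.assocIso _ _ _ ≪≫ PicGrp.tensorModIso (Iso.refl _) h ≪≫ SecTwist.unitorR _)⟩

include hσ hL in
theorem subsingleton_ML_small (p : ℤ) (b : ℕ) (hp : p < 0) (h : b < 2 ∨ p + b < 0) (i : ℕ) (hi : i < 2) :
    Subsingleton (Coh.HH X (ML σ L p b) i) := by
  have hL' : ClSub.IsInverseOf L (ClSub.idealMod (BlowUp.exceptional σ
      (BlowPn.JZ (fun _ : Fin 1 => x) (isClosed_range_const x hx)))) := by rw [jz_eq x hx]; exact hL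
  have h' := BlowPn.subsingleton_neg (fun _ : Fin 1 => x) (fun a b _ => Subsingleton.elim a b) (fun _ => hx)
    (isClosed_range_const x hx) σ (by rw [jz_eq x hx]; exact hσ) (hs := le_rfl) (hn := le_rfl) hL'
    (isInvertible_L x hx σ hσ hL) b (-p) (by omega) (h.imp id fun h => by omega) i hi
  rwa [BlowPn.pO, neg_neg] at h'

include hσk hσ hL in
/-- the Euler characteristics and the cohomology of the restriction to the exceptional line -/
theorem euler_ML (p : ℤ) : ∀ b : ℕ,
    2 * Curv2.euler k X (ML σ L p b) = (p + 1) * (p + 2) - (b : ℤ) * ((b : ℤ) - 1) := by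
  haveI := isProper_over x hx σ hσk hσ
  haveI hPp : IsProper (CohB1.ProjSpace 2 k ↘ Spec (CommRingCat.of k)) := ProjMor.isProper_toSpec 2 k
  haveI := PnHodge.quasiSeparated_toSpec 2 k
  obtain ⟨s, hs, hsc, hker, -⟩ := exists_point x hx
  haveI := hsc
  haveI := ExtFund.smoothOfRelativeDimension_projSpace (k := k) 2
  have hi := Groth.Agent.SectRank.isRegularImmersionOfCodim_of_section 2 (CohB1.ProjSpace.toSpec 2 k) s hs
  let I := BlowUp.exceptional σ (Scheme.IdealSheafData.vanishingIdeal (⟨{x}, hx⟩ : Closeds ↥(CohB1.ProjSpace 2 k)))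
  letI : I.subscheme.Over (Spec (CommRingCat.of k)) := ⟨I.subschemeι ≫ X ↘ Spec (CommRingCat.of k)⟩
  haveI : IsProper (I.subscheme ↘ Spec (CommRingCat.of k)) :=
    inferInstanceAs (IsProper (I.subschemeι ≫ X ↘ Spec (CommRingCat.of k)))
  obtain ⟨hdim, hχD, ht⟩ := exc_facts x hx σ hσ
  have hJ : PicF.IsInvertible (ClSub.idealMod I) := (Groth.Agent.S8914.result _).2 hσ.1
  have hLi := isInvertible_L x hx σ hσ hL
  have hres : ∀ G : X.Modules, FlatMod.IsFinLocFree G → Curv2.euler k X G =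
      Curv2.euler k X (CohB1.tensorMod (ClSub.idealMod I) G) +
        Curv2.euler k I.subscheme ((Scheme.Modules.pullback I.subschemeι).obj G) :=
    fun G hG => HodgeCI.euler_res (k := k) I rfl hJ G hG
  have hOP : Curv2.euler k (CohB1.ProjSpace 2 k) (Coh.structureModule (CohB1.ProjSpace 2 k)) = 1 := by
    obtain ⟨o⟩ := PnHodge.nonempty_twist_zero_iso (n := 2) (A := k)
    have h := euler_twist (k := k) 0
    rw [CurveRR.euler_eq_of_iso o] at h
    linarith
  have hσ' : BlowUp.IsBlowUp σ s.ker := by rw [hker]; exact hσ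
  have hχL : Curv2.euler k X L = 1 := by
    rw [euler_inverse σ hσk s (le_refl 2) hi hσ' (by rw [hker]; exact hL)]
    exact hOP
  have hloc := BlowCech.locData_of_codim s 2 (by omega) hi
  have hχO : Curv2.euler k X (Coh.structureModule X) = 1 := by
    rw [← CurveRR.euler_eq_of_iso (PicLoc.pullbackStructureIso σ),
      euler_pullback σ hσk hloc hσ' (ResDesc.isFinLocFree_structureModule _)]
    exact hOP
  let L' := (Scheme.Modules.pullback I.subschemeι).obj L
  have hL'0 : Curv2.euler k I.subscheme L' = 0 := by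
    have h := hres L (ResDesc.isFinLocFree_of_isInvertible hLi)
    obtain ⟨θ⟩ := hL
    rw [CurveRR.euler_eq_of_iso (TMul.commIso _ _ ≪≫ θ), hχL, hχO] at h
    change (1 : ℤ) = 1 + Curv2.euler k I.subscheme L' at h
    linarith
  intro b
  induction b with
  | zero =>
    rw [CurveRR.euler_eq_of_iso (show ML σ L p 0 ≅ sO σ p from SecTwist.unitorR (sO σ p)),
      euler_pullback σ hσk hloc hσ' (ResDesc.isFinLocFree_of_isInvertible (CohFinite.isInvertible_twist 2 k p)),
      euler_twist p]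
    simp
  | succ b ih =>
    have h := hres (ML σ L p (b + 1)) (ResDesc.isFinLocFree_of_isInvertible (isInvertible_ML x hx σ hσ hL p (b + 1)))
    obtain ⟨e⟩ := nonempty_ideal_ML x hx σ hL p b
    rw [CurveRR.euler_eq_of_iso e] at h
    obtain ⟨v⟩ := TMul.nonempty_pullTensorIso I.subschemeι (sO σ p) (CohB1.tensorPow L (b + 1))
    obtain ⟨w⟩ := TMul.nonempty_pullPowIso I.subschemeι L (b + 1)
    obtain ⟨t⟩ := ht p
    rw [CurveRR.euler_eq_of_iso (v.symm ≪≫ PicGrp.tensorModIso t w.symm),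
      euler_pow_linear hdim (Coh.structureModule I.subscheme) L'
        (FreeLite.isCoh (ResDesc.isFinLocFree_structureModule _)) (PicLoc.isInvertible_pullback _ hLi) (b + 1),
      CurveRR.euler_eq_of_iso (TMul.leftUnitIso L'), hL'0, hχD] at h
    push_cast at h ⊢
    linarith

include hσk hσ hL in
/-- the restrictions to the exceptional line have no sections and no `H²` -/
theorem subsingleton_ML_quot (p : ℤ) (b : ℕ) :
    Subsingleton (Coh.HH X (CohB1.tensorMod
      (ClSub.quotMod (BlowUp.exceptional σ (Scheme.IdealSheafData.vanishingIdeal ⟨{x}, hx⟩))) (ML σ L p (b + 1))) 0) ∧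
    ∀ i, 2 ≤ i → Subsingleton (Coh.HH X (CohB1.tensorMod
      (ClSub.quotMod (BlowUp.exceptional σ (Scheme.IdealSheafData.vanishingIdeal ⟨{x}, hx⟩))) (ML σ L p (b + 1))) i) := by
  haveI := isProper_over x hx σ hσk hσ
  let I := BlowUp.exceptional σ (Scheme.IdealSheafData.vanishingIdeal (⟨{x}, hx⟩ : Closeds ↥(CohB1.ProjSpace 2 k)))
  letI : I.subscheme.Over (Spec (CommRingCat.of k)) := ⟨I.subschemeι ≫ X ↘ Spec (CommRingCat.of k)⟩
  haveI : IsProper (I.subscheme ↘ Spec (CommRingCat.of k)) :=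
    inferInstanceAs (IsProper (I.subschemeι ≫ X ↘ Spec (CommRingCat.of k)))
  obtain ⟨hdim, -, ht⟩ := exc_facts x hx σ hσ
  have hfl : ∀ c, FlatMod.IsFinLocFree (ML σ L c (b + 1)) :=
    fun c => ResDesc.isFinLocFree_of_isInvertible (isInvertible_ML x hx σ hσ hL c (b + 1))
  let j : ∀ c, CohB1.tensorMod (ClSub.quotMod I) (ML σ L c (b + 1)) ≅
      (Scheme.Modules.pushforward I.subschemeι).obj ((Scheme.Modules.pullback I.subschemeι).obj (ML σ L c (b + 1))) :=
    fun c => TMul.commIso _ _ ≪≫ (S0927.projIso I.subschemeι _ (hfl c)).app (Coh.structureModule I.subscheme) ≪≫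
      (Scheme.Modules.pushforward I.subschemeι).mapIso (TMul.commIso _ _ ≪≫ TMul.leftUnitIso _)
  have hsame : ∀ c : ℤ, Nonempty ((Scheme.Modules.pullback I.subschemeι).obj (ML σ L c (b + 1)) ≅
      (Scheme.Modules.pullback I.subschemeι).obj (CohB1.tensorPow L (b + 1))) := fun c => by
    obtain ⟨v⟩ := TMul.nonempty_pullTensorIso I.subschemeι (sO σ c) (CohB1.tensorPow L (b + 1))
    obtain ⟨t⟩ := ht c
    exact ⟨v.symm ≪≫ PicGrp.tensorModIso t (Iso.refl _) ≪≫ TMul.leftUnitIso _⟩
  constructor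
  · let a : ℤ := -(b : ℤ) - 3
    have hS := CohFinite.shortExact_tmap (isInvertible_ML x hx σ hσ hL a (b + 1)) (CurveRR.ideal_shortExact I)
    obtain ⟨e⟩ := nonempty_ideal_ML x hx σ hL a b
    have h3 := subsingleton_hh_X₃ hS 0
      (subsingleton_hh_iso (TMul.leftUnitIso _).symm 0
        (subsingleton_ML_small x hx σ hσ hL a (b + 1) (by omega) (Or.inr (by omega)) 0 two_pos))
      (subsingleton_hh_iso e.symm 1 (subsingleton_ML_small x hx σ hσ hL a b (by omega) (Or.inr (by omega)) 1 one_lt_two))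
    obtain ⟨e₁⟩ := hsame a
    obtain ⟨e₂⟩ := hsame p
    exact subsingleton_hh_iso (j a ≪≫ (Scheme.Modules.pushforward I.subschemeι).mapIso (e₁ ≪≫ e₂.symm) ≪≫ (j p).symm) 0 h3
  · intro i hi
    haveI : ((Scheme.Modules.pullback I.subschemeι).obj (ML σ L p (b + 1))).IsQuasicoherent :=
      LocFree.isQCoh_of_isFinLocFree (SGA6Ext.isFinLocFree_pullback _ (hfl p))
    obtain ⟨e⟩ := CohFinite.hh_push_linear k I.subschemeι rfl _
      (CohQC.directAcyclic_of_isAffineHom I.subschemeι ((Scheme.Modules.pullback I.subschemeι).obj (ML σ L p (b + 1)))) i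
    refine subsingleton_hh_iso (j p).symm i (e.toEquiv.subsingleton_congr.1 ?_)
    haveI := CurveRR.isNoetherian_of_proper k I.subscheme
    exact CurveRR.subsingleton_of_two_le (k := k) (Order.le_of_lt_succ hdim) _ i hi

include hσk hσ hL in
theorem finrank_ML_zero (p : ℤ) : ∀ b : ℕ, Module.finrank k (Coh.HH X (ML σ L p b) 0) = (p + 2).toNat.choose 2 := by
  haveI := isProper_over x hx σ hσk hσ
  intro b
  induction b with
  | zero =>
    exact ((hhEquiv k (show ML σ L p 0 ≅ sO σ p from SecTwist.unitorR (sO σ p)) 0).finrank_eq).trans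
      (finrank_sO_zero x hx σ hσk hσ p)
  | succ b ih =>
    have hS := CohFinite.shortExact_tmap (isInvertible_ML x hx σ hσ hL p (b + 1)) (CurveRR.ideal_shortExact
      (BlowUp.exceptional σ (Scheme.IdealSheafData.vanishingIdeal ⟨{x}, hx⟩)))
    obtain ⟨e⟩ := nonempty_ideal_ML x hx σ hL p b
    have h1 := (hhEquiv k (TMul.leftUnitIso (ML σ L p (b + 1))) 0).finrank_eq
    have h2 := (hhEquiv k e 0).finrank_eq
    exact h1.symm.trans ((finrank_h0_eq (k := k) hS (subsingleton_ML_quot x hx σ hσk hσ hL p b).1).trans (h2.trans ih))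

include hσk hσ hL in
theorem subsingleton_ML_ge_three (p : ℤ) {i : ℕ} (hi : 3 ≤ i) : ∀ b : ℕ, Subsingleton (Coh.HH X (ML σ L p b) i) := by
  haveI := isProper_over x hx σ hσk hσ
  intro b
  induction b with
  | zero =>
    refine subsingleton_hh_iso (SecTwist.unitorR (sO σ p)).symm i ?_
    obtain ⟨e⟩ := nonempty_hh_sO x hx σ hσk hσ p i
    exact e.toEquiv.subsingleton_congr.2
      (ProjCech.twist_vanish (R := k) 2 p i (fun h' => by omega) (fun h' => by omega))
  | succ b ih =>
    have hS := CohFinite.shortExact_tmap (isInvertible_ML x hx σ hσ hL p (b + 1)) (CurveRR.ideal_shortExact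
      (BlowUp.exceptional σ (Scheme.IdealSheafData.vanishingIdeal ⟨{x}, hx⟩)))
    obtain ⟨e⟩ := nonempty_ideal_ML x hx σ hL p b
    refine subsingleton_hh_iso (TMul.leftUnitIso (ML σ L p (b + 1))) i ?_
    exact subsingleton_top (k := k) hS i (subsingleton_hh_iso e.symm i ih)
      ((subsingleton_ML_quot x hx σ hσk hσ hL p b).2 i (by omega))

include hσk hσ hL in
theorem subsingleton_ML_two (p : ℤ) : ∀ b : ℕ, -1 ≤ p + b → Subsingleton (Coh.HH X (ML σ L p b) 2) := by
  haveI := isProper_over x hx σ hσk hσ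
  haveI := CurveRR.isNoetherian_of_proper k X
  have hbase : ∀ b : ℕ, p + b = -1 → Subsingleton (Coh.HH X (ML σ L p b) 2) := fun b hb => by
    have hfin : FiniteDimensional k (Coh.HH X (ML σ L p b) 2) :=
      CohFinite.finite_proper k X _ (CurveRR.isCoh_of_inv (isInvertible_ML x hx σ hσ hL p b)) 2
    have hχ := euler_ML x hx σ hσk hσ hL p b
    rw [euler_three fun i hi => subsingleton_ML_ge_three x hx σ hσk hσ hL p hi b] at hχ
    haveI := subsingleton_ML_small x hx σ hσ hL p b (by omega) (Or.inr (by omega)) 0 two_pos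
    haveI := subsingleton_ML_small x hx σ hσ hL p b (by omega) (Or.inr (by omega)) 1 one_lt_two
    rw [Module.finrank_zero_of_subsingleton (M := Coh.HH X (ML σ L p b) 0),
      Module.finrank_zero_of_subsingleton (M := Coh.HH X (ML σ L p b) 1)] at hχ
    obtain rfl : p = -1 - (b : ℤ) := by omega
    refine (Module.finrank_zero_iff (R := k)).1 ?_
    have : 2 * (Module.finrank k (Coh.HH X (ML σ L (-1 - (b : ℤ)) b) 2) : ℤ) = 0 := by linarith
    omega
  intro b
  induction b with
  | zero =>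
    intro h
    refine subsingleton_hh_iso (SecTwist.unitorR (sO σ p)).symm 2 ?_
    obtain ⟨e⟩ := nonempty_hh_sO x hx σ hσk hσ p 2
    exact e.toEquiv.subsingleton_congr.2
      (ProjCech.twist_vanish (R := k) 2 p 2 (fun h' => by omega) (fun h' => by omega))
  | succ b ih =>
    intro h
    rcases eq_or_lt_of_le h with h' | h'
    · exact hbase (b + 1) h'.symm
    have hS := CohFinite.shortExact_tmap (isInvertible_ML x hx σ hσ hL p (b + 1)) (CurveRR.ideal_shortExact
      (BlowUp.exceptional σ (Scheme.IdealSheafData.vanishingIdeal ⟨{x}, hx⟩)))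
    obtain ⟨e⟩ := nonempty_ideal_ML x hx σ hL p b
    refine subsingleton_hh_iso (TMul.leftUnitIso (ML σ L p (b + 1))) 2 ?_
    exact subsingleton_top (k := k) hS 2 (subsingleton_hh_iso e.symm 2 (ih (by push_cast at h' ⊢; omega)))
      ((subsingleton_ML_quot x hx σ hσk hσ hL p b).2 2 le_rfl)

end Neg

end Groth.Agent.BlowP2
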